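import Groth.Prelude.Def_Rees
import Groth.Prelude.Def_ReesMod
import Groth.Agent.H1SerreFin.Basic
import Groth.Agent.GrLib8.DegMap
import Groth.Agent.LC.CdDim
import Groth.Agent.LC.CohCech
import Mathlib.RingTheory.Ideal.KrullsHeightTheorem

/-!
# The Hilbert–Samuel function and the local cohomology of the Rees module
-/

set_option autoImplicit false
set_option linter.unusedSectionVars false

universe u

open DirectSum Polynomial

namespace Groth.Agent.H1SerreRees

open GrLib8

variable {A : Type u} [CommRing A] [IsNoetherianRing A] (I : Ideal A)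

/-- The grading of the Rees algebra. -/
abbrev dg : ℤ → Submodule A (reesAlgebra I) := Rees.degZ (reesAlgebra I)

/-- The irrelevant ideal. -/
noncomputable abbrev irr : HomogeneousIdeal (dg I) := GrSyz.irrel (dg I)

theorem hpos : ∀ n < 0, ∀ r ∈ dg I n, r = 0 := fun n hn r hr =>
  Subtype.ext (Polynomial.ext fun m => (hr m (show (m : ℤ) ≠ n by omega)).trans (coeff_zero m).symm)

theorem algebraMap_mem_zero (a : A) : algebraMap A (reesAlgebra I) a ∈ dg I 0 := fun m hm => by
  replace hm : (m : ℤ) ≠ 0 := hm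
  show (Polynomial.C a).coeff m = 0
  exact Polynomial.coeff_C_of_ne_zero (by omega)

/-- `A` maps to degree zero. -/
noncomputable def toDeg0 : A →+* GrLC.deg0 (dg I) :=
  (algebraMap A (reesAlgebra I)).codRestrict _ fun a => algebraMap_mem_zero I a

theorem toDeg0_surjective : Function.Surjective (toDeg0 I) := fun f => by
  refine ⟨((f : reesAlgebra I) : A[X]).coeff 0, Subtype.ext (Subtype.ext (Polynomial.ext fun m => ?_))⟩
  show (Polynomial.C (((f : reesAlgebra I) : A[X]).coeff 0)).coeff m = _
  rcases eq_or_ne m 0 with rfl | hm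
  · rw [Polynomial.coeff_C_zero]
  · rw [Polynomial.coeff_C_of_ne_zero hm]
    exact (f.2 m (show (m : ℤ) ≠ 0 by omega)).symm

theorem length_eq {P : Type u} [AddCommGroup P] [Module (GrLC.deg0 (dg I)) P] [Module A P]
    (h : ∀ (a : A) (p : P), toDeg0 I a • p = a • p) :
    Module.length A P = Module.length (GrLC.deg0 (dg I)) P := by
  letI := (toDeg0 I).toAlgebra
  haveI : IsScalarTower A (GrLC.deg0 (dg I)) P := IsScalarTower.of_algebraMap_smul h
  exact Module.length_eq_of_surjective (toDeg0_surjective I)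

theorem exists_cd_bound : ∃ N : ℕ, ∀ (X : GrLC.GMod.{u} (dg I)) (i : ℕ) (g : ℤ),
    N < i → HVan (irr I) X i g := by
  obtain ⟨s, hs⟩ := (IsNoetherian.noetherian (irr I).toIdeal : (irr I).toIdeal.FG)
  refine ⟨s.card, fun X i g hi F => ?_⟩
  haveI : Subsingleton ((localCohomology (irr I).toIdeal i).obj (ModuleCat.of (reesAlgebra I) X.carrier)) :=
    hs ▸ LC.subsingleton_of_card_lt s (ModuleCat.of (reesAlgebra I) X.carrier) i hi
  obtain ⟨e⟩ := GrLib8.nonempty_H_equiv X.gr F (irr I) i
  haveI := e.toEquiv.subsingleton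
  exact GrLib8.Hcomp_eq_bot_of_subsingleton F (irr I) i g

/-! ## The modules -/

variable (M : Type u) [AddCommGroup M] [Module A M]

/-- The filtration shifted by one. -/
noncomputable abbrev F1 : I.Filtration M := I.stableFiltration (I • (⊤ : Submodule A M))

theorem F1_N (n : ℕ) : (F1 I M).N n = I ^ (n + 1) • (⊤ : Submodule A M) := by
  show I ^ n • (I • (⊤ : Submodule A M)) = _
  rw [← Submodule.smul_assoc, pow_succ, smul_eq_mul]

theorem F1_le (n : ℕ) : (F1 I M).N n ≤ (Rees.powFilt I M).N n := smul_mono_right _ le_top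

theorem submodule_le : (F1 I M).submodule ≤ (Rees.powFilt I M).submodule := fun _ hx n => F1_le I M n (hx n)

/-- The Rees module. -/
noncomputable abbrev X0 : GrLC.GMod.{u} (dg I) := gmodPieces (dg I) (Rees.mdegZ (Rees.powFilt I M))

/-- The shifted Rees module. -/
noncomputable abbrev X1 : GrLC.GMod.{u} (dg I) := gmodPieces (dg I) (Rees.mdegZ (F1 I M))

/-- The inclusion. -/
noncomputable def incl : (X1 I M).carrier →ₗ[reesAlgebra I] (X0 I M).carrier :=
  Submodule.inclusion (submodule_le I M)

theorem incl_injective : Function.Injective (incl I M) := Submodule.inclusion_injective _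

theorem incl_grHom : GrLC.IsGrHomDeg (X1 I M).gr (X0 I M).gr (incl I M) 0 := fun g x hx m hm =>
  hx m (by simpa using hm)

theorem coeff_X_smul (g : PolynomialModule A M) (n : ℕ) :
    ((X : A[X]) • g).coeff n = if 1 ≤ n then g.coeff (n - 1) else 0 := by
  rw [← Polynomial.monomial_one_one_eq_X, PolynomialModule.monomial_smul_apply, one_smul]

/-- Multiplication by the variable. -/
noncomputable def raise : (X1 I M).carrier →ₗ[reesAlgebra I] (X0 I M).carrier where
  toFun x := ⟨(X : A[X]) • (x : (F1 I M).submodule).1, fun n => by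
    rw [coeff_X_smul]
    split_ifs with h
    · obtain ⟨k, rfl⟩ := Nat.exists_eq_add_of_le' h
      rw [Nat.add_sub_cancel]
      show _ ∈ I ^ (k + 1) • (⊤ : Submodule A M)
      rw [← F1_N]
      exact (x : (F1 I M).submodule).2 k
    · exact zero_mem _⟩
  map_add' x y := Subtype.ext (smul_add (X : A[X]) (x : (F1 I M).submodule).1 (y : (F1 I M).submodule).1)
  map_smul' r x := Subtype.ext (smul_comm (X : A[X]) (r : A[X]) (x : (F1 I M).submodule).1)

theorem raise_coeff_succ (x : (X1 I M).carrier) (k : ℕ) :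
    ((raise I M x : (Rees.powFilt I M).submodule).1).coeff (k + 1) = (x : (F1 I M).submodule).1.coeff k := by
  show ((X : A[X]) • (x : (F1 I M).submodule).1).coeff (k + 1) = _
  rw [coeff_X_smul, if_pos (Nat.le_add_left 1 k), Nat.add_sub_cancel]

theorem raise_coeff_zero (x : (X1 I M).carrier) :
    ((raise I M x : (Rees.powFilt I M).submodule).1).coeff 0 = 0 := by
  show ((X : A[X]) • (x : (F1 I M).submodule).1).coeff 0 = _
  rw [coeff_X_smul, if_neg (by omega)]

theorem raise_injective : Function.Injective (raise I M) := fun x y h => by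
  refine Subtype.ext (PolynomialModule.ext (Finsupp.ext fun k => ?_))
  rw [← raise_coeff_succ I M x k, ← raise_coeff_succ I M y k, h]

theorem raise_grHom : GrLC.IsGrHomDeg (X1 I M).gr (X0 I M).gr (raise I M) 1 := fun g x hx m hm => by
  rcases m with _ | k
  · exact raise_coeff_zero I M x
  · refine (raise_coeff_succ I M x k).trans (hx k ?_)
    intro hk
    exact hm (show ((k + 1 : ℕ) : ℤ) = g + 1 by push_cast; rw [← hk]; rfl)

theorem mem_range_raise (y : (X0 I M).carrier) (h : (y : (Rees.powFilt I M).submodule).1.coeff 0 = 0) :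
    y ∈ LinearMap.range (raise I M) := by
  let c := (y : (Rees.powFilt I M).submodule).1.coeff.comapDomain (fun k : ℕ => k + 1) (fun _ _ _ _ he => Nat.succ_injective he)
  refine ⟨⟨PolynomialModule.ofCoeff A c, fun k => ?_⟩, Subtype.ext (PolynomialModule.ext (Finsupp.ext fun n => ?_))⟩
  · show c k ∈ (F1 I M).N k
    rw [F1_N]
    exact (y : (Rees.powFilt I M).submodule).2 (k + 1)
  · rcases n with _ | k
    · exact (raise_coeff_zero I M _).trans h.symm
    · exact (raise_coeff_succ I M _ k).trans rfl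

/-- The associated graded module. -/
noncomputable def gG : GrLC.GMod.{u} (dg I) :=
  quotGMod (dg I) (X0 I M).gr (LinearMap.range (incl I M))
    (isHomogeneous_range (X0 I M).gr (X1 I M).gr (isGrHomDeg_zero_iff.1 (incl_grHom I M)))

theorem range_raise_homogeneous : (LinearMap.range (raise I M)).IsHomogeneous (X0 I M).gr := by
  rintro n _ ⟨x, rfl⟩
  have h := map_decompose_deg (ℳ := (X1 I M).gr) (𝒩 := (X0 I M).gr) (raise I M) (raise_grHom I M) x (n - 1)
  rw [sub_add_cancel] at h
  exact ⟨_, h⟩

/-- The part in degree zero. -/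
noncomputable def gT : GrLC.GMod.{u} (dg I) :=
  quotGMod (dg I) (X0 I M).gr (LinearMap.range (raise I M)) (range_raise_homogeneous I M)

/-- The projection to the associated graded module. -/
noncomputable def projG : (X0 I M).carrier →ₗ[reesAlgebra I] (gG I M).carrier :=
  (LinearMap.range (incl I M)).mkQ

/-- The projection to degree zero. -/
noncomputable def projT : (X0 I M).carrier →ₗ[reesAlgebra I] (gT I M).carrier :=
  (LinearMap.range (raise I M)).mkQ

theorem projG_grHom : GrLC.IsGrHomDeg (X0 I M).gr (gG I M).gr (projG I M) 0 := fun g x hx => by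
  rw [add_zero]; exact ⟨x, hx, rfl⟩

theorem projT_grHom : GrLC.IsGrHomDeg (X0 I M).gr (gT I M).gr (projT I M) 0 := fun g x hx => by
  rw [add_zero]; exact ⟨x, hx, rfl⟩

theorem projG_surjective : Function.Surjective (projG I M) := Submodule.mkQ_surjective _

theorem projT_surjective : Function.Surjective (projT I M) := Submodule.mkQ_surjective _

theorem exact_incl : Function.Exact (incl I M) (projG I M) := LinearMap.exact_map_mkQ_range (incl I M)

theorem exact_raise : Function.Exact (raise I M) (projT I M) := LinearMap.exact_map_mkQ_range (raise I M)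

theorem gT_torsion : LocCoh.IsPowerTorsion (irr I).toIdeal (gT I M).carrier := fun t => by
  refine ⟨1, fun r hr => ?_⟩
  rw [pow_one] at hr
  obtain ⟨y, rfl⟩ := projT_surjective I M t
  rw [← map_smul]
  refine (Submodule.Quotient.mk_eq_zero _).2 ?_
  induction hr using Submodule.span_induction with
  | mem r hr =>
    obtain ⟨n, hn, hr⟩ := hr
    refine mem_range_raise I M _ ?_
    show ((r : A[X]) • (y : (Rees.powFilt I M).submodule).1).coeff 0 = 0
    rw [PolynomialModule.smul_apply, Finset.Nat.antidiagonal_zero, Finset.sum_singleton,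
      hr 0 (show ((0 : ℕ) : ℤ) ≠ n by omega), zero_smul]
  | zero => rw [zero_smul]; exact zero_mem _
  | add a b _ _ ha hb => rw [add_smul]; exact add_mem ha hb
  | smul c a _ ha => rw [smul_eq_mul, mul_smul]; exact Submodule.smul_mem _ c ha

theorem gT_piece_subsingleton (g : ℤ) (hg : 1 ≤ g) : Subsingleton (GrLC.comp (dg I) (gT I M).gr g) := by
  refine subsingleton_of_forall_eq 0 fun t => Subtype.ext ?_
  obtain ⟨y, hy, hyt⟩ := (t.2 : (t : (gT I M).carrier) ∈ (gT I M).gr g)
  rw [← hyt]
  exact (Submodule.Quotient.mk_eq_zero _).2 (mem_range_raise I M y (hy 0 (show ((0 : ℕ) : ℤ) ≠ g by omega)))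

theorem gT_hVan (i : ℕ) (g : ℤ) (hg : 1 ≤ g) : HVan (irr I) (gT I M) i g := by
  rcases i with _ | i
  · haveI := gT_piece_subsingleton I M g hg
    exact hVan_zero_of fun m _ hm => congrArg Subtype.val
      (Subsingleton.elim (⟨m, hm⟩ : GrLC.comp (dg I) (gT I M).gr g) 0)
  · exact hVan_of_torsion (gT_torsion I M) i g

variable [Module.Finite A M]

instance finite_X0 : Module.Finite (reesAlgebra I) (X0 I M).carrier := by
  have := (Ideal.Filtration.submodule_fg_iff_stable (Rees.powFilt I M) fun i => IsNoetherian.noetherian _).2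
    (I.stableFiltration_stable ⊤)
  exact Module.Finite.iff_fg.2 this

instance finite_X1 : Module.Finite (reesAlgebra I) (X1 I M).carrier := by
  have := (Ideal.Filtration.submodule_fg_iff_stable (F1 I M) fun i => IsNoetherian.noetherian _).2
    (I.stableFiltration_stable _)
  exact Module.Finite.iff_fg.2 this

instance finite_gG : Module.Finite (reesAlgebra I) (gG I M).carrier :=
  Module.Finite.of_surjective (projG I M) (projG_surjective I M)

/-! ## Lengths -/

variable [IsLocalRing A] (hI : I.radical = IsLocalRing.maximalIdeal A)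
include hI

theorem length_quot_ne_top (n : ℕ) : Module.length A (M ⧸ (I ^ n • (⊤ : Submodule A M))) ≠ ⊤ := by
  rcases n with _ | n
  · rw [pow_zero, Ideal.one_eq_top, Submodule.top_smul]
    haveI : Subsingleton (M ⧸ (⊤ : Submodule A M)) := Submodule.Quotient.subsingleton_iff.2 rfl
    rw [Module.length_eq_zero]
    exact ENat.zero_ne_top
  let J := I ^ (n + 1)
  have hle : J ≤ IsLocalRing.maximalIdeal A :=
    (Ideal.pow_le_self (Nat.succ_ne_zero n)).trans (Ideal.le_radical.trans hI.le)
  have hmin : IsLocalRing.maximalIdeal A ∈ J.minimalPrimes :=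
    ⟨⟨inferInstance, hle⟩, fun q hq _ => by
      rw [← hI]
      exact hq.1.radical_le_iff.2 fun x hx =>
        hq.1.mem_of_pow_mem (n + 1) (hq.2 (Ideal.pow_mem_pow hx _))⟩
  haveI : IsArtinianRing (A ⧸ J) := IsLocalRing.quotient_artinian_of_mem_minimalPrimes_of_isLocalRing J hmin
  let Q := M ⧸ (J • (⊤ : Submodule A M))
  have htors : Module.IsTorsionBySet A Q J := Module.isTorsionBySet_quotient_ideal_smul M J
  letI := htors.module
  haveI : IsScalarTower A (A ⧸ J) Q := htors.isScalarTower
  haveI : Module.Finite (A ⧸ J) Q := Module.Finite.of_restrictScalars_finite A (A ⧸ J) Q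
  rw [show Module.length A Q = Module.length (A ⧸ J) Q from
    Module.length_eq_of_surjective Ideal.Quotient.mk_surjective]
  exact Module.length_ne_top_iff.2 (isFiniteLength_iff_isNoetherian_isArtinian.2 ⟨inferInstance, inferInstance⟩)

theorem length_gG (n : ℕ) :
    Module.length (GrLC.deg0 (dg I)) (GrLC.comp (dg I) (gG I M).gr (n : ℤ)) +
      Module.length A (M ⧸ (I ^ n • (⊤ : Submodule A M))) =
      Module.length A (M ⧸ (I ^ (n + 1) • (⊤ : Submodule A M))) := by
  let P := GrLC.comp (dg I) (gG I M).gr (n : ℤ)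
  letI : Module A P := Module.compHom P (toDeg0 I)
  rw [← length_eq I (P := P) fun _ _ => rfl]
  let F0 := Rees.powFilt I M
  let e : F0.N n → (X0 I M).carrier := fun v => (Rees.mdegEquiv F0 n v : F0.submodule)
  have he : ∀ v, e v ∈ (X0 I M).gr (n : ℤ) := fun v =>
    (Rees.mem_mdegZ_natCast_iff F0 n _).2 (Rees.mdegEquiv F0 n v).2
  let ψ : F0.N n →ₗ[A] P :=
    { toFun := fun v => ⟨projG I M (e v), by
        have := projG_grHom I M _ _ (he v)
        rw [add_zero] at this
        exact this⟩
      map_add' := fun v w => Subtype.ext (by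
        show projG I M (e (v + w)) = projG I M (e v) + projG I M (e w)
        rw [← map_add]
        exact congrArg (projG I M) (congrArg Subtype.val (map_add (Rees.mdegEquiv F0 n) v w)))
      map_smul' := fun c v => Subtype.ext (by
        show projG I M (e (c • v)) = (algebraMap A (reesAlgebra I) c) • projG I M (e v)
        rw [← map_smul]
        refine congrArg (projG I M) ?_
        exact (Rees.mdegEquiv_smul F0 n c v).trans
          (algebraMap_smul (reesAlgebra I) c (Rees.mdegEquiv F0 n v : F0.submodule)).symm) }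
  have hψ : Function.Surjective ψ := by
    rintro ⟨_, y, hy, rfl⟩
    refine ⟨(Rees.mdegEquiv F0 n).symm ⟨y, (Rees.mem_mdegZ_natCast_iff F0 n _).1 hy⟩, Subtype.ext ?_⟩
    show projG I M (Rees.mdegEquiv F0 n ((Rees.mdegEquiv F0 n).symm _) : F0.submodule) = _
    rw [AddEquiv.apply_symm_apply]
    rfl
  have hker : ∀ v, ψ v = 0 ↔ (v : M) ∈ I ^ (n + 1) • (⊤ : Submodule A M) := fun v => by
    rw [Subtype.ext_iff]
    show projG I M (e v) = 0 ↔ _
    refine (Submodule.Quotient.mk_eq_zero _).trans ⟨?_, fun hv => ?_⟩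
    · rintro ⟨x, hx⟩
      have h := (x : (F1 I M).submodule).2 n
      have h2 : (x : (F1 I M).submodule).1 = PolynomialModule.single A n (v : M) := congrArg Subtype.val hx
      rw [h2, F1_N, PolynomialModule.coeff_single, Finsupp.single_eq_same] at h
      exact h
    · refine ⟨⟨PolynomialModule.single A n (v : M), fun k => ?_⟩, rfl⟩
      rw [PolynomialModule.coeff_single, Finsupp.single_apply]
      split_ifs with h
      · subst h; rw [F1_N]; exact hv
      · exact zero_mem _
  let N0 : Submodule A M := I ^ n • ⊤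
  let N1 : Submodule A M := I ^ (n + 1) • ⊤
  have hle : N1 ≤ N0 := Submodule.smul_mono_left (Ideal.pow_le_pow_right (Nat.le_succ n))
  let f0 : (F0.N n ⧸ LinearMap.ker ψ) →ₗ[A] M ⧸ N1 :=
    (LinearMap.ker ψ).liftQ (N1.mkQ ∘ₗ (F0.N n).subtype) fun v hv =>
      (Submodule.Quotient.mk_eq_zero _).2 ((hker v).1 hv)
  let g0 : (M ⧸ N1) →ₗ[A] M ⧸ N0 := Submodule.factor hle
  have hf0 : Function.Injective f0 := by
    rw [← LinearMap.ker_eq_bot, Submodule.eq_bot_iff]
    intro q hq
    obtain ⟨v, rfl⟩ := Submodule.mkQ_surjective _ q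
    exact (Submodule.Quotient.mk_eq_zero _).2
      ((hker v).2 ((Submodule.Quotient.mk_eq_zero _).1 (LinearMap.mem_ker.1 hq)))
  have hg0 : Function.Surjective g0 := Submodule.factor_surjective hle
  have hex : Function.Exact f0 g0 := fun q => by
    obtain ⟨m, rfl⟩ := Submodule.mkQ_surjective N1 q
    constructor
    · intro hm
      exact ⟨(LinearMap.ker ψ).mkQ ⟨m, (Submodule.Quotient.mk_eq_zero _).1 hm⟩, rfl⟩
    · rintro ⟨w, hw⟩
      obtain ⟨v, rfl⟩ := Submodule.mkQ_surjective _ w
      rw [← hw]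
      exact (Submodule.Quotient.mk_eq_zero _).2 v.2
  rw [Module.length_eq_add_of_exact f0 g0 hf0 hg0 hex, (ψ.quotKerEquivOfSurjective hψ).length_eq]

theorem good_gG : H1SerreFin.Good (gG I M) := fun g => by
  rcases lt_or_ge g 0 with hg | hg
  · haveI : Subsingleton (GrLC.comp (dg I) (gG I M).gr g) := subsingleton_of_forall_eq 0 fun t => Subtype.ext (by
      obtain ⟨y, hy, hyt⟩ := (t.2 : (t : (gG I M).carrier) ∈ (gG I M).gr g)
      rw [← hyt, show y = 0 from Subtype.ext (PolynomialModule.ext (Finsupp.ext fun m => hy m (show (m : ℤ) ≠ g by omega)))]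
      exact map_zero _)
    rw [Module.length_eq_zero]
    exact ENat.zero_ne_top
  · lift g to ℕ using hg
    intro h
    have := length_gG I M hI g
    rw [h, top_add] at this
    exact length_quot_ne_top I M hI (g + 1) this.symm

theorem lenN_gG (n : ℕ) :
    (H1SerreFin.lenN (S := GrLC.deg0 (dg I)) (GrLC.comp (dg I) (gG I M).gr (n : ℤ)) : ℚ) =
      ((Module.length A (M ⧸ (I ^ (n + 1) • (⊤ : Submodule A M)))).toNat : ℚ) -
        ((Module.length A (M ⧸ (I ^ n • (⊤ : Submodule A M)))).toNat : ℚ) := by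
  rw [← length_gG I M hI n, ENat.toNat_add (good_gG I M hI _) (length_quot_ne_top I M hI n), Nat.cast_add,
    add_sub_cancel_right]
  rfl

/-! ## Finiteness and the formula -/

theorem finLen_X0_X1 : ∀ g : ℤ, 0 ≤ g → ∀ i, HP (irr I) (H1SerreFin.FinLen (𝒜 := dg I)) (X0 I M) i g ∧
    HP (irr I) (H1SerreFin.FinLen (𝒜 := dg I)) (X1 I M) i g := by
  have hh := hpos I
  obtain ⟨N, hN⟩ := exists_cd_bound I
  choose b hb using fun i => GrLib8.exists_hVan (a := irr I) hh le_rfl i (X0 I M)
  let c : ℤ := ∑ i ∈ Finset.range (N + 1), |b i|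
  have high : ∀ g, c < g → ∀ i, HVan (irr I) (X0 I M) i g := fun g hg i => by
    rcases lt_or_ge N i with h | h
    · exact hN _ i g h
    · have h1 := Finset.single_le_sum (f := fun i => |b i|) (fun i _ => abs_nonneg _)
        (Finset.mem_range.2 (show i < N + 1 by omega))
      have h2 := le_abs_self (b i)
      exact hb i g (by omega)
  have step1 : ∀ g : ℤ, 0 ≤ g → (∀ i, HP (irr I) (H1SerreFin.FinLen (𝒜 := dg I)) (X0 I M) i (g + 1)) →
      ∀ i, HP (irr I) (H1SerreFin.FinLen (𝒜 := dg I)) (X1 I M) i g := by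
    intro g hg h0 i E
    let F : GrLC.StarInjRes (dg I) (X0 I M).gr := starRes (X0 I M).gr
    let G : GrLC.StarInjRes (dg I) (gT I M).gr := starRes (gT I M).gr
    obtain ⟨hi0, hi⟩ := exists_les (raise I M) (projT I M) (raise_grHom I M) (projT_grHom I M)
      (raise_injective I M) (projT_surjective I M) (exact_raise I M) E F G (irr I)
    rcases i with _ | i
    · exact H1SerreFin.ne_top_of_injective
        (pieceMap E F (irr I) _ (isGrHomDeg_hmap (irr I) (raise_grHom I M) 0) rfl)
        (fun x y he => Subtype.ext (hi0 (congrArg Subtype.val he :))) (h0 0 F)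
    · obtain ⟨δ, hδ, -, -, e3⟩ := hi i
      refine phi_of_exact H1SerreFin.midClosed_finLen G E F δ _ hδ
        (isGrHomDeg_hmap (irr I) (raise_grHom I M) (i + 1)) e3 ?_ (h0 _ F)
      exact hp_of_hVan H1SerreFin.midClosed_finLen (gT_hVan I M i (g - -1) (by omega)) G
  have step2 : ∀ g : ℤ, (∀ i, HP (irr I) (H1SerreFin.FinLen (𝒜 := dg I)) (X1 I M) i g) →
      ∀ i, HP (irr I) (H1SerreFin.FinLen (𝒜 := dg I)) (X0 I M) i g := fun g h1 i =>
    hp_middle H1SerreFin.midClosed_finLen (incl_grHom I M) (projG_grHom I M) (incl_injective I M)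
      (projG_surjective I M) (exact_incl I M) (by rw [sub_zero]; exact h1 i)
      (H1SerreFin.finLen_piece hh le_rfl ⟨1, (pow_one _).le⟩ i (gG I M) (good_gG I M hI) g)
  suffices key : ∀ (k : ℕ) (g : ℤ), c - g < k → 0 ≤ g → ∀ i,
      HP (irr I) (H1SerreFin.FinLen (𝒜 := dg I)) (X0 I M) i g from fun g hg i =>
    ⟨key ((c - g + 1).toNat) g (by omega) hg i,
      step1 g hg (key ((c - g + 1).toNat) (g + 1) (by omega) (by omega)) i⟩
  intro k
  induction k with
  | zero => exact fun g hg _ i => hp_of_hVan H1SerreFin.midClosed_finLen (high g (by omega) i)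
  | succ k ih =>
    intro g hg hg0
    exact step2 g (step1 g hg0 (ih (g + 1) (by omega) (by omega)))

theorem main (P : Polynomial ℚ) (hP : ∃ N : ℕ, ∀ n : ℕ, N ≤ n →
      P.eval (n : ℚ) = ((Module.length A (M ⧸ (I ^ n • (⊤ : Submodule A M)))).toNat : ℚ)) :
    ∃ N : ℕ, (∀ i, N < i → ∀ g, HVan (irr I) (X0 I M) i g) ∧ ∀ n : ℕ,
      P.eval (n : ℚ) - ((Module.length A (M ⧸ (I ^ n • (⊤ : Submodule A M)))).toNat : ℚ) =
        (H1SerreFin.eulerH (irr I) N (X0 I M) (n : ℤ) : ℚ) := by
  have hh := hpos I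
  have hk : ∃ k, (irr I).toIdeal ^ k ≤ (GrSyz.irrel (dg I)).toIdeal := ⟨1, (pow_one _).le⟩
  obtain ⟨N, hN⟩ := exists_cd_bound I
  obtain ⟨n0, hn0⟩ := hP
  refine ⟨N, fun i hi g => hN _ i g hi, ?_⟩
  let Q : Polynomial ℚ := P.comp (Polynomial.X + Polynomial.C 1) - P
  have hQ : ∃ c : ℤ, ∀ g, c < g → Q.eval (g : ℚ) =
      (H1SerreFin.lenN (S := GrLC.deg0 (dg I)) (GrLC.comp (dg I) (gG I M).gr g) : ℚ) := by
    refine ⟨(n0 : ℤ), fun g hg => ?_⟩
    obtain ⟨n, rfl⟩ : ∃ n : ℕ, g = (n : ℤ) := ⟨g.toNat, by omega⟩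
    have hn : n0 < n := by exact_mod_cast hg
    rw [lenN_gG I M hI n, ← hn0 (n + 1) (by omega), ← hn0 n hn.le]
    simp [Q]
  have hform := H1SerreFin.formula hh le_rfl hk N hN (gG I M) (good_gG I M hI) Q hQ
  have hfin := finLen_X0_X1 I M hI
  have hG : ∀ g i, HP (irr I) (H1SerreFin.FinLen (𝒜 := dg I)) (gG I M) i g := fun g i =>
    H1SerreFin.finLen_piece hh le_rfl hk i (gG I M) (good_gG I M hI) g
  have hrec : ∀ n : ℕ, (H1SerreFin.eulerH (irr I) N (X0 I M) (n : ℤ) : ℚ) -
      (H1SerreFin.eulerH (irr I) N (X0 I M) ((n : ℤ) + 1) : ℚ) =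
      (H1SerreFin.eulerH (irr I) N (gG I M) (n : ℤ) : ℚ) := by
    intro n
    have e1 := H1SerreFin.eulerH_add hh le_rfl hk (incl_grHom I M) (projG_grHom I M) (incl_injective I M)
      (projG_surjective I M) (exact_incl I M) N (n : ℤ) (hN _ _ _ (Nat.lt_succ_self N))
      (fun i => by rw [sub_zero]; exact (hfin _ (Int.natCast_nonneg n) i).2)
      (fun i => (hfin _ (Int.natCast_nonneg n) i).1) (hG _)
    have e2 := H1SerreFin.eulerH_add hh le_rfl hk (raise_grHom I M) (projT_grHom I M) (raise_injective I M)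
      (projT_surjective I M) (exact_raise I M) N ((n : ℤ) + 1) (hN _ _ _ (Nat.lt_succ_self N))
      (fun i => by rw [add_sub_cancel_right]; exact (hfin _ (Int.natCast_nonneg n) i).2)
      (fun i => (hfin _ (by omega) i).1)
      (fun i => hp_of_hVan H1SerreFin.midClosed_finLen (gT_hVan I M i _ (by omega)))
    have hT : H1SerreFin.eulerH (irr I) N (gT I M) ((n : ℤ) + 1) = 0 := Finset.sum_eq_zero fun i _ => by
      rw [H1SerreFin.lenH_eq_zero (gT_hVan I M i _ (by omega)), Nat.cast_zero, mul_zero]
    rw [sub_zero] at e1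
    rw [add_sub_cancel_right, hT, add_zero] at e2
    rw [e1, e2]
    push_cast
    ring
  let f : ℕ → ℚ := fun n => P.eval (n : ℚ) - ((Module.length A (M ⧸ (I ^ n • (⊤ : Submodule A M)))).toNat : ℚ) -
    (H1SerreFin.eulerH (irr I) N (X0 I M) (n : ℤ) : ℚ)
  have hstep : ∀ n, f (n + 1) = f n := fun n => by
    have h1 := hform (n : ℤ)
    have h2 := hrec n
    rw [lenN_gG I M hI n] at h1
    simp only [Q, Polynomial.eval_sub, Polynomial.eval_comp, Polynomial.eval_add, Polynomial.eval_X,
      Polynomial.eval_C, Int.cast_natCast] at h1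
    simp only [f, Nat.cast_add, Nat.cast_one]
    linarith
  choose b hb using fun i => GrLib8.exists_hVan (a := irr I) hh le_rfl i (X0 I M)
  have hzero : ∃ m, ∀ n, m ≤ n → f n = 0 := by
    refine ⟨n0 + (∑ i ∈ Finset.range (N + 1), (b i).natAbs) + 1, fun n hn => ?_⟩
    have he : H1SerreFin.eulerH (irr I) N (X0 I M) (n : ℤ) = 0 := Finset.sum_eq_zero fun i hi => by
      have := Finset.single_le_sum (f := fun i => (b i).natAbs) (fun i _ => Nat.zero_le _) hi
      rw [H1SerreFin.lenH_eq_zero (hb i _ (by omega)), Nat.cast_zero, mul_zero]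
    simp only [f, he, hn0 n (by omega)]
    simp
  obtain ⟨m, hm⟩ := hzero
  intro n
  have hcon : ∀ k, f (n + k) = f n := fun k => by
    induction k with
    | zero => rfl
    | succ k ih => rw [← ih, ← hstep (n + k)]; rfl
  have := (hcon m).symm.trans (hm (n + m) (by omega))
  simp only [f, sub_eq_zero] at this
  exact this

end Groth.Agent.H1SerreRees
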